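import Mathlib

/-! Residue functionals for forms with poles at two points of the line. -/

set_option autoImplicit false

open Polynomial

namespace Groth.P1Res

variable {k : Type*} [Field k]

/-- The numerator of the differential of `G / (X^a (X-β)^b)`. -/
noncomputable def E (β : k) (a b : ℕ) (G : k[X]) : k[X] :=
  derivative G * (X * (X - C β)) - C (a : k) * G * (X - C β) - C (b : k) * G * X

/-- The residue at `0`, as a linear functional on numerators. -/
def IsRes (β : k) (a b : ℕ) (r : k[X] →ₗ[k] k) : Prop :=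
  (∀ f, X ^ (a + 1) ∣ f → r f = 0) ∧ (∀ f, r ((X - C β) ^ (b + 1) * f) = f.coeff a) ∧
    ∀ G, r (E β a b G) = 0

theorem exists_isRes {β : k} (hβ : β ≠ 0) (a b : ℕ) : ∃ r, IsRes β a b r := by
  have hcop : IsCoprime ((X : k[X]) ^ (a + 1)) ((X - C β) ^ (b + 1)) := by
    refine IsCoprime.pow ?_
    have := isCoprime_X_sub_C_of_isUnit_sub (a := (0 : k)) (b := β) (by simpa using hβ)
    simpa using this
  obtain ⟨z, v, hzv⟩ := hcop
  have hlow : ∀ g : k[X], (X ^ (a + 1) * g).coeff a = 0 := fun g => by simp [coeff_X_pow_mul']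
  refine ⟨(lcoeff k a) ∘ₗ (LinearMap.mulRight k v), ?_, ?_, ?_⟩
  · rintro f ⟨g, rfl⟩
    simp [mul_assoc, hlow]
  · intro f
    have e : (X - C β) ^ (b + 1) * f * v = f - X ^ (a + 1) * (z * f) := by linear_combination f * hzv
    simp [e, hlow]
  · intro G
    have hd := congrArg derivative hzv
    simp only [derivative_add, derivative_mul, derivative_pow, derivative_X, derivative_one,
      derivative_sub, derivative_C, sub_zero, mul_one, Nat.add_sub_cancel, Nat.cast_add, Nat.cast_one] at hd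
    have h1 : X ^ a ∣ (derivative v * (X - C β) + C ((b : k) + 1) * v) := by
      have hcop' : IsCoprime ((X : k[X]) ^ a) ((X - C β) ^ b) := by
        refine IsCoprime.pow ?_
        have := isCoprime_X_sub_C_of_isUnit_sub (a := (0 : k)) (b := β) (by simpa using hβ)
        simpa using this
      refine hcop'.dvd_of_dvd_mul_left ⟨-(derivative z * X + C ((a : k) + 1) * z), ?_⟩
      linear_combination hd
    obtain ⟨w, hw⟩ := h1
    set H := G * v * (X - C β) with hH
    have hH0 : (X * derivative H - C (a : k) * H).coeff a = 0 := by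
      rw [coeff_sub, coeff_C_mul]
      rcases a with _ | n
      · rw [coeff_X_mul_zero]; simp
      · rw [coeff_X_mul, coeff_derivative]; push_cast; ring
    have e : E β a b G * v = (X * derivative H - C (a : k) * H) - X ^ (a + 1) * (G * w) := by
      simp only [hH, E, derivative_mul, derivative_sub, derivative_X, derivative_C, sub_zero, mul_one]
      rw [map_add, map_one] at hw
      linear_combination (-(X * G)) * hw
    simp only [LinearMap.comp_apply, LinearMap.mulRight_apply, lcoeff_apply, e]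
    rw [coeff_sub, hH0, hlow, sub_zero]

theorem taylor_one_E (a b : ℕ) (G : k[X]) : taylor 1 (E 1 a b G) = E (-1) b a (taylor 1 G) := by
  have hd : derivative (taylor (1 : k) G) = taylor 1 (derivative G) := by
    simp [taylor_apply, derivative_comp]
  simp only [E, map_sub, taylor_mul, taylor_X, taylor_C, hd, map_neg, taylor_one, map_one]
  ring

/-- A pair of residues at `0` and `1`. -/
theorem exists_pair (a b : ℕ) : ∃ r₀ r₁ : k[X] →ₗ[k] k,
    ((∀ f, X ^ (a + 1) ∣ f → r₀ f = 0) ∧ (∀ f, r₀ ((X - C 1) ^ (b + 1) * f) = f.coeff a)) ∧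
    ((∀ f, (X - C 1) ^ (b + 1) ∣ f → r₁ f = 0) ∧ (∀ f, r₁ (X ^ (a + 1) * f) = (taylor 1 f).coeff b)) ∧
    (∀ G, r₀ (E 1 a b G) = 0) ∧ ∀ G, r₁ (E 1 a b G) = 0 := by
  obtain ⟨r₀, h1, h2, h3⟩ := exists_isRes (one_ne_zero : (1 : k) ≠ 0) a b
  obtain ⟨r, h4, h5, h6⟩ := exists_isRes (neg_ne_zero.2 (one_ne_zero : (1 : k) ≠ 0)) b a
  refine ⟨r₀, r ∘ₗ taylor 1, ⟨h1, h2⟩, ⟨?_, ?_⟩, h3, fun G => ?_⟩
  · rintro f ⟨g, rfl⟩
    refine h4 _ ⟨taylor 1 g, ?_⟩
    simp [taylor_mul, taylor_pow]
  · intro f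
    rw [LinearMap.comp_apply, taylor_mul, taylor_pow, taylor_X, show (X : k[X]) + C 1 = X - C (-1 : k) by simp, h5]
  · rw [LinearMap.comp_apply, taylor_one_E, h6]

/-- Membership in the system gives vanishing residues. -/
theorem res_eq_zero {a b : ℕ} {r₀ r₁ : k[X] →ₗ[k] k}
    (h₀ : (∀ f, X ^ (a + 1) ∣ f → r₀ f = 0) ∧ (∀ f, r₀ ((X - C 1) ^ (b + 1) * f) = f.coeff a))
    (h₁ : (∀ f, (X - C 1) ^ (b + 1) ∣ f → r₁ f = 0) ∧ (∀ f, r₁ (X ^ (a + 1) * f) = (taylor 1 f).coeff b))
    {V : Submodule k k[X]}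
    (hV : V = ((Ideal.span {(X : k[X]) ^ (a + 1)}).restrictScalars k ⊓ degreeLE k ↑(a + b)) ⊔
      ((Ideal.span {((X : k[X]) - 1) ^ (b + 1)}).restrictScalars k ⊓ degreeLE k ↑(a + b)) ⊔
      Submodule.span k {(X : k[X]) ^ (a + 1) * (X - 1) ^ (b + 1)})
    {f : k[X]} (hf : f ∈ V) : r₀ f = 0 ∧ r₁ f = 0 := by
  suffices h : V ≤ LinearMap.ker r₀ ⊓ LinearMap.ker r₁ from h hf
  rw [hV]
  refine sup_le (sup_le ?_ ?_) ?_
  · rintro g ⟨hg, hd⟩
    obtain ⟨u, rfl⟩ := Ideal.mem_span_singleton.1 hg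
    refine ⟨h₀.1 _ (dvd_mul_right _ _), ?_⟩
    show r₁ _ = 0
    rw [h₁.2]
    by_cases hu : u = 0
    · simp [hu]
    · have hd' := natDegree_le_of_degree_le (mem_degreeLE.1 hd)
      rw [natDegree_mul (pow_ne_zero _ X_ne_zero) hu, natDegree_X_pow] at hd'
      exact coeff_eq_zero_of_natDegree_lt (by rw [natDegree_taylor]; omega)
  · rintro g ⟨hg, hd⟩
    obtain ⟨u, rfl⟩ := Ideal.mem_span_singleton.1 hg
    refine ⟨?_, h₁.1 _ ⟨u, by rw [C_1]⟩⟩
    show r₀ _ = 0
    rw [← C_1, h₀.2]
    by_cases hu : u = 0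
    · simp [hu]
    · have hd' := natDegree_le_of_degree_le (mem_degreeLE.1 hd)
      rw [← C_1, natDegree_mul (pow_ne_zero _ (X_sub_C_ne_zero 1)) hu, natDegree_pow, natDegree_X_sub_C] at hd'
      exact coeff_eq_zero_of_natDegree_lt (by omega)
  · rw [Submodule.span_singleton_le_iff_mem]
    exact ⟨h₀.1 _ (dvd_mul_right _ _), h₁.1 _ ⟨X ^ (a + 1), by rw [C_1]; ring⟩⟩

variable [CharZero k]

/-- The cubic of the exact form `d((X-p)^i (X-q)^j / D)`. -/
noncomputable def cubic (p q : k) (a b i j : ℕ) : k[X] :=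
  (C (i : k) * (X - C q) + C (j : k) * (X - C p)) * (X * (X - C 1))
    - (X - C p) * (X - C q) * (C (a : k) * (X - C 1) + C (b : k) * X)

theorem E_pow (p q : k) (a b i j s : ℕ) (hi : 0 < i) (hj : 0 < j) :
    E 1 a b (X ^ s * ((X - C p) ^ i * (X - C q) ^ j)) =
      ((X - C p) ^ (i - 1) * (X - C q) ^ (j - 1)) *
        (X ^ s * (cubic p q a b i j + C (s : k) * ((X - C p) * (X - C q) * (X - C 1)))) := by
  obtain ⟨i, rfl⟩ := Nat.exists_eq_add_of_le hi
  obtain ⟨j, rfl⟩ := Nat.exists_eq_add_of_le hj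
  simp only [E, cubic, Nat.succ_eq_add_one, Nat.zero_add, Nat.add_sub_cancel_left, derivative_mul, derivative_pow,
    derivative_X_sub_C, derivative_X, mul_one, Nat.cast_add, Nat.cast_one, map_add, map_one]
  cases s with
  | zero => simp only [Nat.cast_zero, map_zero, pow_zero]; ring
  | succ s => simp only [Nat.add_sub_cancel, Nat.cast_add, Nat.cast_one, map_add, map_one]; ring

theorem mem_degreeLT_four (u : k[X]) : u ∈ degreeLT k 4 ↔ ∀ m, 4 ≤ m → u.coeff m = 0 := by
  rw [mem_degreeLT, degree_lt_iff_coeff_zero]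

theorem cubic_coeff (p q : k) (a b i j : ℕ) (hij : i + j = a + b + 2) (s : ℕ) :
    (X ^ s * (cubic p q a b i j + C (s : k) * ((X - C p) * (X - C q) * (X - C 1)))).natDegree ≤ s + 3 ∧
    (X ^ s * (cubic p q a b i j + C (s : k) * ((X - C p) * (X - C q) * (X - C 1)))).coeff (s + 3) = (s : k) + 2 := by
  have h : (i : k) + j = a + b + 2 := by exact_mod_cast congrArg (Nat.cast : ℕ → k) hij
  have e : cubic p q a b i j + C (s : k) * ((X - C p) * (X - C q) * (X - C 1)) =
      C ((s : k) + 2) * X ^ 3 + (C (-((i : k) * q + j * p) - ((i : k) + j) + ((a : k) + b) * (p + q) + a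
          - s * (p + q + 1)) * X ^ 2 +
        C ((i : k) * q + j * p - ((a : k) + b) * (p * q) - a * (p + q) + s * (p * q + p + q)) * X +
        C ((a : k) * (p * q) - s * (p * q))) := by
    have hC := congrArg (C : k → k[X]) h
    simp only [cubic, map_add, map_sub, map_mul, map_neg, map_one, map_natCast, C_ofNat] at hC ⊢
    linear_combination (X : k[X]) ^ 3 * hC
  constructor
  · refine natDegree_mul_le.trans (Nat.add_le_add (le_of_eq (natDegree_X_pow s)) ?_)
    rw [e]
    compute_degree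
  · rw [coeff_X_pow_mul', if_pos (by omega), Nat.add_sub_cancel_left, e, coeff_add, coeff_add, coeff_add,
      coeff_C_mul_X_pow, coeff_C_mul_X_pow, coeff_C_mul_X, coeff_C]
    simp

/-- If a pencil of the reduced system exists, a nonzero combination of residues kills all multiples. -/
theorem exists_relation (a b i j : ℕ) (p q : k) (hi : 0 < i) (hj : 0 < j) (hij : i + j = a + b + 2)
    {r₀ r₁ : k[X] →ₗ[k] k}
    (h₀ : (∀ f, X ^ (a + 1) ∣ f → r₀ f = 0) ∧ (∀ f, r₀ ((X - C 1) ^ (b + 1) * f) = f.coeff a))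
    (h₁ : (∀ f, (X - C 1) ^ (b + 1) ∣ f → r₁ f = 0) ∧ (∀ f, r₁ (X ^ (a + 1) * f) = (taylor 1 f).coeff b))
    (hE₀ : ∀ G, r₀ (E 1 a b G) = 0) (hE₁ : ∀ G, r₁ (E 1 a b G) = 0)
    {V : Submodule k k[X]}
    (hV : V = ((Ideal.span {(X : k[X]) ^ (a + 1)}).restrictScalars k ⊓ degreeLE k ↑(a + b)) ⊔
      ((Ideal.span {((X : k[X]) - 1) ^ (b + 1)}).restrictScalars k ⊓ degreeLE k ↑(a + b)) ⊔
      Submodule.span k {(X : k[X]) ^ (a + 1) * (X - 1) ^ (b + 1)})
    (hh : 2 ≤ Module.finrank k ↥(V ⊓ (Ideal.span {(X - C p) ^ (i - 1) * (X - C q) ^ (j - 1)}).restrictScalars k)) :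
    ∃ μ ν : k, (μ ≠ 0 ∨ ν ≠ 0) ∧
      ∀ R : k[X], μ * r₀ ((X - C p) ^ (i - 1) * (X - C q) ^ (j - 1) * R) +
        ν * r₁ ((X - C p) ^ (i - 1) * (X - C q) ^ (j - 1) * R) = 0 := by
  classical
  set h := (X - C p) ^ (i - 1) * (X - C q) ^ (j - 1) with hhdef
  have hhne : h ≠ 0 := mul_ne_zero (pow_ne_zero _ (X_sub_C_ne_zero p)) (pow_ne_zero _ (X_sub_C_ne_zero q))
  have hhdeg : h.natDegree = a + b := by
    rw [hhdef, natDegree_mul (pow_ne_zero _ (X_sub_C_ne_zero p)) (pow_ne_zero _ (X_sub_C_ne_zero q)),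
      natDegree_pow, natDegree_pow, natDegree_X_sub_C, natDegree_X_sub_C]
    omega
  let P := degreeLT k 4
  have : FiniteDimensional k P := Module.Finite.equiv (degreeLTEquiv k 4).symm
  let T : P →ₗ[k] k × k := ((r₀ ∘ₗ LinearMap.mulLeft k h).prod (r₁ ∘ₗ LinearMap.mulLeft k h)) ∘ₗ P.subtype
  let mh : P →ₗ[k] k[X] := LinearMap.mulLeft k h ∘ₗ P.subtype
  have hmh : Function.Injective mh := fun u v huv => Subtype.ext (mul_left_cancel₀ hhne huv)
  have hdeg : ∀ f ∈ V, f.natDegree ≤ a + b + 2 := by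
    intro f hf
    have : V ≤ degreeLE k ↑(a + b + 2) := by
      rw [hV]
      refine sup_le (sup_le (inf_le_right.trans (degreeLE_mono (by norm_cast; omega)))
        (inf_le_right.trans (degreeLE_mono (by norm_cast; omega)))) ?_
      rw [Submodule.span_singleton_le_iff_mem, mem_degreeLE, ← natDegree_le_iff_degree_le, ← C_1]
      refine natDegree_mul_le.trans ?_
      rw [natDegree_X_pow, natDegree_pow, natDegree_X_sub_C]; omega
    exact natDegree_le_of_degree_le (mem_degreeLE.1 (this hf))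
  let W := V ⊓ (Ideal.span {h}).restrictScalars k
  let W' : Submodule k P := W.comap mh
  have hWeq : W'.map mh = W := by
    refine le_antisymm (Submodule.map_comap_le _ _) fun f hf => ?_
    obtain ⟨R, rfl⟩ := Ideal.mem_span_singleton.1 hf.2
    refine ⟨⟨R, ?_⟩, hf, rfl⟩
    rw [mem_degreeLT_four]
    intro m hm
    by_cases hR : R = 0
    · simp [hR]
    · refine coeff_eq_zero_of_natDegree_lt ?_
      have := hdeg _ hf.1
      rw [natDegree_mul hhne hR, hhdeg] at this
      omega
  have hW' : 2 ≤ Module.finrank k W' := by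
    rw [LinearEquiv.finrank_eq (Submodule.equivMapOfInjective mh hmh W'), hWeq]
    exact hh
  have hCmem : cubic p q a b i j ∈ P := by
    rw [mem_degreeLT_four]
    intro m hm
    refine coeff_eq_zero_of_natDegree_lt ?_
    have := (cubic_coeff p q a b i j hij 0).1
    simp at this
    omega
  have hker : W' ⊔ Submodule.span k {(⟨_, hCmem⟩ : P)} ≤ LinearMap.ker T := by
    refine sup_le (fun u hu => ?_) ?_
    · obtain ⟨hu1, -⟩ := hu
      obtain ⟨e0, e1⟩ := res_eq_zero h₀ h₁ hV hu1
      exact Prod.ext e0 e1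
    · rw [Submodule.span_singleton_le_iff_mem]
      have e := E_pow p q a b i j 0 hi hj
      simp only [pow_zero, one_mul, Nat.cast_zero, map_zero, zero_mul, add_zero] at e
      refine Prod.ext ?_ ?_
      · show r₀ (h * cubic p q a b i j) = 0
        rw [hhdef, ← e, hE₀]
      · show r₁ (h * cubic p q a b i j) = 0
        rw [hhdef, ← e, hE₁]
  have hnot : (⟨_, hCmem⟩ : P) ∉ W' := by
    rintro ⟨hu1, -⟩
    have h1 := hdeg _ hu1
    have h2 : (cubic p q a b i j).coeff 3 = (2 : k) := by simpa using (cubic_coeff p q a b i j hij 0).2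
    have h3 : 3 ≤ (cubic p q a b i j).natDegree := le_natDegree_of_ne_zero (h2 ▸ two_ne_zero)
    change (h * cubic p q a b i j).natDegree ≤ _ at h1
    rw [natDegree_mul hhne (fun e => by simp [e] at h3), hhdeg] at h1
    omega
  have h3 : 3 ≤ Module.finrank k (LinearMap.ker T) := by
    have hlt : W' < W' ⊔ Submodule.span k {(⟨_, hCmem⟩ : P)} :=
      lt_of_le_not_ge le_sup_left fun hle => hnot (hle (Submodule.mem_sup_right (Submodule.mem_span_singleton_self _)))
    have := Submodule.finrank_lt_finrank_of_lt hlt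
    have := Submodule.finrank_mono hker
    omega
  have hrange : LinearMap.range T < ⊤ := by
    refine lt_top_iff_ne_top.2 fun htop => ?_
    have h4 := LinearMap.finrank_range_add_finrank_ker T
    rw [htop, finrank_top, Module.finrank_prod, Module.finrank_self,
      (degreeLTEquiv k 4).finrank_eq, Module.finrank_fin_fun] at h4
    omega
  obtain ⟨φ, hφ, hle⟩ := Submodule.exists_le_ker_of_lt_top _ hrange
  refine ⟨φ (1, 0), φ (0, 1), ?_, ?_⟩
  · by_contra hc
    push Not at hc
    exact hφ (LinearMap.prod_ext (LinearMap.ext_ring hc.1) (LinearMap.ext_ring hc.2))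
  let L : k[X] →ₗ[k] k := φ (1, 0) • (r₀ ∘ₗ LinearMap.mulLeft k h) + φ (0, 1) • (r₁ ∘ₗ LinearMap.mulLeft k h)
  suffices hL : ∀ n, L (X ^ n) = 0 by
    intro R
    have : L R = 0 := by
      induction R using Polynomial.induction_on' with
      | add u v hu hv => rw [map_add, hu, hv, add_zero]
      | monomial n c => rw [← C_mul_X_pow_eq_monomial, ← smul_eq_C_mul, map_smul, hL, smul_zero]
    exact this
  intro n
  induction n using Nat.strong_induction_on with
  | _ n ih =>
    have hsmall : ∀ u : k[X], u.natDegree < n → L u = 0 := fun u hu => by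
      conv_lhs => rw [u.as_sum_range_C_mul_X_pow]
      rw [map_sum]
      refine Finset.sum_eq_zero fun m hm => ?_
      rw [← smul_eq_C_mul, map_smul, ih m (by have := Finset.mem_range.1 hm; omega), smul_zero]
    by_cases hn : n < 4
    · have hmem : (X : k[X]) ^ n ∈ P := by
        rw [mem_degreeLT_four]; intro m hm; rw [coeff_X_pow, if_neg (by omega)]
      have h5 : φ (T ⟨_, hmem⟩) = 0 := hle (LinearMap.mem_range_self _ _)
      have h6 : T ⟨_, hmem⟩ = r₀ (h * X ^ n) • ((1 : k), (0 : k)) + r₁ (h * X ^ n) • ((0 : k), (1 : k)) := by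
        simp [T]
      rw [h6, map_add, map_smul, map_smul] at h5
      simp only [L, LinearMap.add_apply, LinearMap.smul_apply, LinearMap.comp_apply, LinearMap.mulLeft_apply,
        smul_eq_mul] at h5 ⊢
      linear_combination h5
    · obtain ⟨s, rfl⟩ : ∃ s, n = s + 3 := ⟨n - 3, by omega⟩
      obtain ⟨hd, hc⟩ := cubic_coeff p q a b i j hij s
      set u := X ^ s * (cubic p q a b i j + C (s : k) * ((X - C p) * (X - C q) * (X - C 1))) with hu
      have hLu : L u = 0 := by
        have e := E_pow p q a b i j s hi hj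
        rw [← hu, ← hhdef] at e
        simp [L, ← e, hE₀, hE₁]
      have hne : (s : k) + 2 ≠ 0 := by exact_mod_cast (by omega : (s + 2 : ℕ) ≠ 0)
      have hrest : L (u - C ((s : k) + 2) * X ^ (s + 3)) = 0 := by
        refine hsmall _ ?_
        have h1 : (u - C ((s : k) + 2) * X ^ (s + 3)).natDegree ≤ s + 3 :=
          (natDegree_sub_le _ _).trans (max_le hd (natDegree_C_mul_X_pow_le _ _))
        rcases lt_or_eq_of_le h1 with h2 | h2
        · exact h2
        · exfalso
          have h0 : (u - C ((s : k) + 2) * X ^ (s + 3)).leadingCoeff = 0 := by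
            rw [leadingCoeff, h2, coeff_sub, hc, coeff_C_mul_X_pow, if_pos rfl, sub_self]
          rw [leadingCoeff_eq_zero] at h0
          rw [h0, natDegree_zero] at h2
          omega
      rw [map_sub, hLu, zero_sub, neg_eq_zero, ← smul_eq_C_mul, map_smul, smul_eq_mul] at hrest
      exact (mul_eq_zero.1 hrest).resolve_left hne

end Groth.P1Res
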